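import Groth.Agent.EtFound.LiftEtale
import Groth.Agent.EtFound.LiftEtaleLoc
import Mathlib.AlgebraicGeometry.Fiber

/-!
# Étale schemes over a fibre lift, Zariski locally, to the total space

If every element of an `A`-algebra `T` is a fraction of elements of `A`, standard étale
`T`-algebras lift to standard étale `A`-algebras. The ring of an affine piece of a fibre is of
this kind.
-/

universe u

open CategoryTheory CategoryTheory.Limits AlgebraicGeometry
open scoped TensorProduct

namespace Groth.Agent.FibEt14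

set_option linter.style.haveILetI false
set_option backward.isDefEq.respectTransparency false
set_option backward.isDefEq.respectTransparency.types false

/-- Every element is a fraction of elements coming from the base. -/
def IsFrac (A T : Type u) [CommRing A] [CommRing T] [Algebra A T] : Prop :=
  ∀ t : T, ∃ a b : A, IsUnit (algebraMap A T b) ∧ t * algebraMap A T b = algebraMap A T a

theorem IsFrac.tensor {R A K : Type u} [CommRing R] [CommRing A] [CommRing K] [Algebra R A] [Algebra R K]
    (h : IsFrac R K) : IsFrac A (A ⊗[R] K) := by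
  intro t
  induction t using TensorProduct.induction_on with
  | zero => exact ⟨0, 1, by rw [map_one]; exact isUnit_one, by rw [zero_mul, map_zero]⟩
  | tmul a k =>
    obtain ⟨r, b, hb, hk⟩ := h k
    refine ⟨a * algebraMap R A r, algebraMap R A b, ?_, ?_⟩
    · rw [← IsScalarTower.algebraMap_apply R A (A ⊗[R] K)]
      have h2 := hb.map (Algebra.TensorProduct.includeRight (R := R) (A := A) (B := K))
      rwa [AlgHom.commutes] at h2
    · rw [← IsScalarTower.algebraMap_apply R A (A ⊗[R] K), map_mul,
        ← IsScalarTower.algebraMap_apply R A (A ⊗[R] K)]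
      have hb' : algebraMap R (A ⊗[R] K) b = (1 : A) ⊗ₜ algebraMap R K b :=
        ((Algebra.TensorProduct.includeRight (R := R) (A := A) (B := K)).commutes b).symm
      have hr' : algebraMap R (A ⊗[R] K) r = (1 : A) ⊗ₜ algebraMap R K r :=
        ((Algebra.TensorProduct.includeRight (R := R) (A := A) (B := K)).commutes r).symm
      rw [hb', hr', Algebra.TensorProduct.tmul_mul_tmul, mul_one, hk, Algebra.TensorProduct.algebraMap_apply,
        Algebra.TensorProduct.tmul_mul_tmul, one_mul]
      simp
  | add x y hx hy =>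
    obtain ⟨a, b, hb, hxa⟩ := hx
    obtain ⟨c, d, hd, hyc⟩ := hy
    refine ⟨a * d + c * b, b * d, by rw [map_mul]; exact hb.mul hd, ?_⟩
    rw [map_mul, map_add, map_mul, map_mul, ← hxa, ← hyc]
    ring

/-- Standard étale algebras lift along an algebra of fractions. -/
theorem IsFrac.exists_standardEtale_lift {A T C : Type u} [CommRing A] [CommRing T] [CommRing C] [Algebra A T]
    (h : IsFrac A T) [Algebra T C] [Algebra.IsStandardEtale T C] :
    ∃ (P : StandardEtalePair A), Nonempty (T ⊗[A] P.Ring ≃ₐ[T] C) := by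
  let S : Submonoid A := (IsUnit.submonoid T).comap (algebraMap A T)
  let L := Localization S
  let φ : L →+* T := IsLocalization.lift (M := S) (S := L) (g := algebraMap A T) fun y => y.2
  letI := φ.toAlgebra
  haveI : IsScalarTower A L T :=
    IsScalarTower.of_algebraMap_eq fun a => (IsLocalization.lift_eq (M := S) (S := L) _ a).symm
  have hsurj : Function.Surjective (algebraMap L T) := by
    intro t
    obtain ⟨a, b, hb, hab⟩ := h t
    refine ⟨IsLocalization.mk' L a (⟨b, hb⟩ : S), ?_⟩
    refine (IsLocalization.lift_mk'_spec _ _ _ _).2 ?_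
    rw [mul_comm]
    exact hab.symm
  obtain ⟨P₁, ⟨e₁⟩⟩ := EtFound.exists_standardEtale_lift (C := C) hsurj
  obtain ⟨P, ⟨e₀⟩⟩ := EtFound.exists_standardEtale_lift_loc (A := A) (T := L) (C := P₁.Ring) S
  refine ⟨P, ⟨?_⟩⟩
  exact ((Algebra.TensorProduct.cancelBaseChange A L T T P.Ring).symm.trans
    (Algebra.TensorProduct.congr AlgEquiv.refl e₀)).trans e₁

/-- Étale schemes over `Z` lift Zariski locally along `i : Z ⟶ X`, if `Z` is affine locally on
`X` given by algebras of fractions. -/
theorem exists_etale_lift {Z X : Scheme.{u}} (i : Z ⟶ X) {U : Scheme.{u}}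
    (f : U ⟶ Z) [AlgebraicGeometry.Etale f] (u : U)
    (hi : ∃ (A T : CommRingCat.{u}) (j : Spec A ⟶ X) (_ : Algebra A T) (k : Spec T ⟶ Z),
      IsOpenImmersion j ∧ IsFrac A T ∧ f.base u ∈ Set.range k.base ∧
      IsPullback k (Spec.map (CommRingCat.ofHom (algebraMap A T))) i j) :
    ∃ (V : X.Etale) (h : pullback V.hom i ⟶ U), h ≫ f = pullback.snd V.hom i ∧ IsOpenImmersion h ∧
      u ∈ Set.range h.base := by
  obtain ⟨A, T, j, hA, k, hj, hT, ⟨t, ht⟩, sq⟩ := hi
  let q : Spec T ⟶ Spec A := Spec.map (CommRingCat.ofHom (algebraMap A T))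
  have hk : IsOpenImmersion k := MorphismProperty.of_isPullback sq.flip hj
  obtain ⟨u', hu', hu''⟩ := Scheme.Pullback.exists_preimage_pullback (f := f) (g := k) u t ht.symm
  obtain ⟨C0, w, hw, hu0, -⟩ := Scheme.exists_affine_mem_range_and_range_subset
    (x := u') (U := (⊤ : (pullback f k).Opens)) (by simp)
  obtain ⟨c, hc⟩ := hu0
  obtain ⟨φ, hφ⟩ := Spec.map_surjective (w ≫ pullback.snd f k)
  algebraize [φ.hom]
  have : Algebra.Etale T C0 := by
    have h : AlgebraicGeometry.Etale (Spec.map φ) := by
      have hs : AlgebraicGeometry.Etale (pullback.snd f k) :=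
        MorphismProperty.of_isPullback (P := @AlgebraicGeometry.Etale) (IsPullback.of_hasPullback f k) ‹_›
      rw [hφ]; infer_instance
    exact RingHom.etale_algebraMap.1 ((HasRingHomProperty.Spec_iff (P := @AlgebraicGeometry.Etale)).mp h)
  obtain ⟨g, hgc, hC⟩ := Algebra.IsEtaleAt.exists_isStandardEtale (R := T) c.asIdeal
  obtain ⟨P, ⟨eC⟩⟩ := hT.exists_standardEtale_lift (C := Localization.Away g)
  let B : CommRingCat.{u} := CommRingCat.of P.Ring
  let b : Spec B ⟶ Spec A := Spec.map (CommRingCat.ofHom (algebraMap A P.Ring))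
  have hb : AlgebraicGeometry.Etale b := by
    rw [HasRingHomProperty.Spec_iff (P := @AlgebraicGeometry.Etale)]
    exact RingHom.etale_algebraMap.2 inferInstance
  have hVet : AlgebraicGeometry.Etale (b ≫ j) := inferInstance
  let V : X.Etale := Scheme.Etale.mk (b ≫ j)
  let L : CommRingCat.{u} := CommRingCat.of (Localization.Away g)
  let π : Spec L ⟶ Spec T := Spec.map (CommRingCat.ofHom (algebraMap T (Localization.Away g)))
  let m : Spec L ⟶ Spec B := Spec.map (CommRingCat.ofHom ((eC.toRingEquiv.toRingHom).comp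
    (Algebra.TensorProduct.includeRight (R := A) (A := T) (B := P.Ring)).toRingHom))
  let ε : Spec L ≅ Spec (CommRingCat.of (T ⊗[A] P.Ring)) :=
    Scheme.Spec.mapIso (eC.toRingEquiv.toCommRingCatIso).op
  have sq2 : IsPullback π m q b := by
    refine (IsPullback.of_hasPullback q b).of_iso ((pullbackSpecIso A T P.Ring) ≪≫ ε.symm)
      (Iso.refl _) (Iso.refl _) (Iso.refl _) ?_ ?_ (by simp) (by simp)
    · have e1 : ε.hom ≫ Spec.map (CommRingCat.ofHom (algebraMap T (T ⊗[A] P.Ring))) = π := by
        change Spec.map _ ≫ Spec.map _ = _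
        rw [← Spec.map_comp]
        refine congrArg Spec.map ?_
        ext r
        exact eC.commutes r
      rw [← e1]
      change _ ≫ 𝟙 _ = ((pullbackSpecIso A T P.Ring).hom ≫ ε.inv) ≫ ε.hom ≫ _
      rw [Category.comp_id, Category.assoc, Iso.inv_hom_id_assoc]
      exact (pullbackSpecIso_hom_fst' _ _ _).symm
    · have e2 : ε.hom ≫ Spec.map (CommRingCat.ofHom
          (Algebra.TensorProduct.includeRight (R := A) (A := T) (B := P.Ring)).toRingHom) = m := by
        change Spec.map _ ≫ Spec.map _ = _
        rw [← Spec.map_comp]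
        rfl
      rw [← e2]
      change _ ≫ 𝟙 _ = ((pullbackSpecIso A T P.Ring).hom ≫ ε.inv) ≫ ε.hom ≫ _
      rw [Category.comp_id, Category.assoc, Iso.inv_hom_id_assoc]
      exact (pullbackSpecIso_hom_snd _ _ _).symm
  have sq3 : IsPullback m (π ≫ k) (b ≫ j) i := sq2.flip.paste_vert sq.flip
  let o : Spec L ⟶ U := Spec.map (CommRingCat.ofHom (algebraMap C0 (Localization.Away g))) ≫ w ≫ pullback.fst f k
  have ho : IsOpenImmersion o := by
    have h1 : IsOpenImmersion (Spec.map (CommRingCat.ofHom (algebraMap C0 (Localization.Away g)))) :=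
      IsOpenImmersion.of_isLocalization g
    have h2 : IsOpenImmersion (pullback.fst f k) :=
      MorphismProperty.of_isPullback (P := @IsOpenImmersion) (IsPullback.of_hasPullback f k).flip hk
    infer_instance
  have hof : o ≫ f = π ≫ k := by
    simp only [o, Category.assoc, pullback.condition]
    rw [← Category.assoc w, ← hφ, ← Category.assoc, ← Spec.map_comp]
    refine congrArg (· ≫ k) (congrArg Spec.map ?_)
    ext r
    exact (IsScalarTower.algebraMap_apply T C0 (Localization.Away g) r).symm
  refine ⟨V, sq3.isoPullback.inv ≫ o, ?_, inferInstance, ?_⟩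
  · rw [Category.assoc, hof]
    exact sq3.isoPullback_inv_snd
  · have hcg : c ∈ Set.range (Spec.map (CommRingCat.ofHom (algebraMap C0 (Localization.Away g)))).base :=
      (PrimeSpectrum.localization_away_comap_range (Localization.Away g) g).ge hgc
    obtain ⟨l, hl⟩ := hcg
    obtain ⟨p', hp'⟩ := sq3.isoPullback.inv.surjective l
    refine ⟨p', (Scheme.Hom.comp_apply _ _ p').trans ((congrArg o.base hp').trans ?_)⟩
    rw [← hu']
    simp only [o, Scheme.Hom.comp_apply]
    exact congrArg (pullback.fst f k).base ((congrArg w.base hl).trans hc)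

/-- A field-valued preimmersion into an affine scheme is given by fractions. -/
theorem isFrac_of_isPreimmersion {R K : CommRingCat.{u}} (φ : R ⟶ K) (hK : IsField K)
    [IsPreimmersion (Spec.map φ)] : @IsFrac R K _ _ φ.hom.toAlgebra := by
  letI := φ.hom.toAlgebra
  letI := hK.toField
  have hs : φ.hom.SurjectiveOnStalks :=
    (HasRingHomProperty.Spec_iff (P := @SurjectiveOnStalks)).mp inferInstance
  intro k
  obtain ⟨r, s, c, hc, hs', e⟩ := (RingHom.surjective_localRingHom_iff (⊥ : Ideal K)).1 (hs ⊥ inferInstance) k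
  refine ⟨r, s, ?_, ?_⟩
  · exact isUnit_iff_ne_zero.2 fun h0 => hs' (Ideal.mem_bot.2 h0)
  · have hc' : c ≠ 0 := fun h0 => hc (Ideal.mem_bot.2 h0)
    refine mul_left_cancel₀ hc' ?_
    exact ((congrArg (c * ·) (mul_comm k (φ.hom s))).trans (mul_assoc _ _ _).symm).trans e

theorem isPullback_comp_mono {C : Type*} [Category C] {P X Y Z W : C} {p : P ⟶ X} {q : P ⟶ Y}
    {a : X ⟶ Z} {b : Y ⟶ Z} (h : IsPullback p q a b) (m : Z ⟶ W) [Mono m] :
    IsPullback p q (a ≫ m) (b ≫ m) := by
  refine ⟨⟨by rw [reassoc_of% h.w]⟩, ⟨PullbackCone.IsLimit.mk _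
    (fun t => h.lift t.fst t.snd ((cancel_mono m).1 (by simpa using t.condition))) ?_ ?_ ?_⟩⟩
  · intro t; exact h.lift_fst _ _ _
  · intro t; exact h.lift_snd _ _ _
  · intro t l h1 h2
    exact h.hom_ext (h1.trans (h.lift_fst _ _ _).symm) (h2.trans (h.lift_snd _ _ _).symm)

/-- Affine locally on `X`, the fibre over `s` is given by algebras of fractions. -/
theorem exists_affine_fiber {X S : Scheme.{u}} (f : X ⟶ S) (s : S) (z : f.fiber s) :
    ∃ (A T : CommRingCat.{u}) (j : Spec A ⟶ X) (_ : Algebra A T) (k : Spec T ⟶ f.fiber s),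
      IsOpenImmersion j ∧ IsFrac A T ∧ z ∈ Set.range k.base ∧
      IsPullback k (Spec.map (CommRingCat.ofHom (algebraMap A T))) (f.fiberι s) j := by
  have hs : f.base ((f.fiberι s).base z) = s :=
    (f.range_fiberι s).le ⟨z, rfl⟩
  obtain ⟨R, jR, hjR, hsR, -⟩ := Scheme.exists_affine_mem_range_and_range_subset
    (x := s) (U := (⊤ : S.Opens)) (by simp)
  obtain ⟨A, j, hj, ⟨a, ha⟩, hjU⟩ := Scheme.exists_affine_mem_range_and_range_subset
    (x := (f.fiberι s).base z) (U := f ⁻¹ᵁ jR.opensRange) (show f.base ((f.fiberι s).base z) ∈ jR.opensRange by rw [hs]; exact hsR)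
  have hrA : Set.range (j ≫ f).base ⊆ Set.range jR.base := by
    rintro _ ⟨y, rfl⟩
    exact hjU ⟨y, rfl⟩
  obtain ⟨φA, hφA⟩ := Spec.map_surjective (IsOpenImmersion.lift jR (j ≫ f) hrA)
  have hψr : Set.range (S.fromSpecResidueField s).base ⊆ Set.range jR.base := by
    rw [Scheme.range_fromSpecResidueField]
    exact Set.singleton_subset_iff.2 hsR
  obtain ⟨φK, hφK⟩ := Spec.map_surjective (IsOpenImmersion.lift jR (S.fromSpecResidueField s) hψr)
  have hfac : IsOpenImmersion.lift jR (S.fromSpecResidueField s) hψr ≫ jR = S.fromSpecResidueField s :=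
    IsOpenImmersion.lift_fac ..
  haveI : IsPreimmersion (Spec.map φK ≫ jR) := by rw [hφK, hfac]; infer_instance
  haveI : IsPreimmersion (Spec.map φK) := IsPreimmersion.of_comp _ jR
  have hfr := isFrac_of_isPreimmersion φK (Field.toIsField (S.residueField s))
  letI := φA.hom.toAlgebra
  letI := φK.hom.toAlgebra
  let T : CommRingCat.{u} := CommRingCat.of (A ⊗[R] S.residueField s)
  let k₀ : Spec T ⟶ Spec (S.residueField s) :=
    Spec.map (CommRingCat.ofHom (Algebra.TensorProduct.includeRight (R := R) (A := A) (B := S.residueField s)).toRingHom)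
  let q : Spec T ⟶ Spec A := Spec.map (CommRingCat.ofHom (algebraMap A T))
  have sq0 : IsPullback q k₀ (Spec.map φA) (Spec.map φK) := by
    refine (IsPullback.of_hasPullback _ _).of_iso (pullbackSpecIso R A (S.residueField s))
      (Iso.refl _) (Iso.refl _) (Iso.refl _) ?_ ?_ (by simp; rfl) (by simp; rfl)
    · rw [Iso.refl_hom, Category.comp_id]
      exact (pullbackSpecIso_hom_fst' _ _ _).symm
    · rw [Iso.refl_hom, Category.comp_id]
      exact (pullbackSpecIso_hom_snd _ _ _).symm
  have sq1 : IsPullback q k₀ (j ≫ f) (S.fromSpecResidueField s) := by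
    have h1 : Spec.map φA ≫ jR = j ≫ f := by rw [hφA, IsOpenImmersion.lift_fac]
    have h2 : Spec.map φK ≫ jR = S.fromSpecResidueField s := by rw [hφK, hfac]
    rw [← h1, ← h2]
    exact isPullback_comp_mono sq0 jR
  let k : Spec T ⟶ f.fiber s := pullback.lift (q ≫ j) k₀ (by rw [Category.assoc]; exact sq1.w)
  have sq2 : IsPullback k q (f.fiberι s) j :=
    IsPullback.of_right (h₁₂ := f.fiberToSpecResidueField s) (v₁₃ := S.fromSpecResidueField s) (h₂₂ := f)
      (by
        have hk : k ≫ f.fiberToSpecResidueField s = k₀ := pullback.lift_snd _ _ _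
        rw [hk]
        exact sq1.flip)
      (pullback.lift_fst _ _ _) (IsPullback.of_hasPullback f (S.fromSpecResidueField s)).flip
  refine ⟨A, T, j, inferInstance, k, hj, hfr.tensor, ?_, sq2⟩
  obtain ⟨w, hw, -⟩ := Scheme.Pullback.exists_preimage_pullback (f := f.fiberι s) (g := j) z a ha.symm
  refine ⟨sq2.isoPullback.inv.base w, ?_⟩
  rw [← Scheme.Hom.comp_apply, IsPullback.isoPullback_inv_fst]
  exact hw

end Groth.Agent.FibEt14
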